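import Groth.Agent.Lib.GITSS15.Sections
import Groth.Agent.Lib.GITHM15.Group
import Groth.Agent.Lib.AffAct15.Spec

/-!
# Finitely many invariant sections presenting the semi-stable locus
-/

set_option autoImplicit false
set_option linter.style.haveILetI false
set_option backward.isDefEq.respectTransparency.types false
universe u

open CategoryTheory Limits MonoidalCategory CartesianMonoidalCategory MonObj AlgebraicGeometry TopologicalSpace

noncomputable section

namespace Groth.Agent.GITSS15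

open Groth.Agent.WtMu19 Groth.Agent.GITHM15
open Groth.Agent.FixLine19 (str)
open Groth.Agent.GITQuot (resT resT_bijective)

attribute [local instance] HomSch19.algW

variable {k : Type u} [Field k] {G X : Over (Spec (CommRingCat.of k))} [GrpObj G] (a : AlgGrp.Action G X)

/-- An invariant open carries an action. -/
theorem exists_restrict (U : X.left.Opens) (hU : a.act.left ⁻¹ᵁ U = (snd G X).left ⁻¹ᵁ U) :
    ∃ aU : AlgGrp.Action G (Over.mk (U.ι ≫ X.hom)),
      aU.act ≫ (Over.homMk U.ι rfl : Over.mk (U.ι ≫ X.hom) ⟶ X) =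
        (G ◁ (Over.homMk U.ι rfl : Over.mk (U.ι ≫ X.hom) ⟶ X)) ≫ a.act := by
  let j : Over.mk (U.ι ≫ X.hom) ⟶ X := Over.homMk U.ι rfl
  haveI : Mono j := (Over.forget _).mono_of_mono_map (show Mono U.ι from inferInstance)
  have hr : Set.range ((G ◁ j) ≫ a.act).left ⊆ Set.range U.ι := by
    rw [Scheme.Opens.range_ι]
    rintro _ ⟨p, rfl⟩
    show (G ◁ j).left p ∈ a.act.left ⁻¹ᵁ U
    rw [hU]
    show ((G ◁ j) ≫ snd G X).left p ∈ U
    rw [whiskerLeft_snd]
    exact ((snd G (Over.mk (U.ι ≫ X.hom))).left p).2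
  let l : G ⊗ Over.mk (U.ι ≫ X.hom) ⟶ Over.mk (U.ι ≫ X.hom) := Over.homMk (IsOpenImmersion.lift U.ι _ hr) (by
    show IsOpenImmersion.lift U.ι _ hr ≫ U.ι ≫ X.hom = _
    rw [← Category.assoc, IsOpenImmersion.lift_fac]
    exact Over.w _)
  have h1 : l ≫ j = (G ◁ j) ≫ a.act := Over.OverMorphism.ext (IsOpenImmersion.lift_fac _ _ _)
  refine ⟨⟨l, ?_, ?_⟩, h1⟩
  · rw [← cancel_mono j, Category.assoc, h1, ← whisker_exchange_assoc, a.one_act, leftUnitor_naturality]
  · rw [← cancel_mono j, Category.assoc, h1, ← whisker_exchange_assoc, a.mul_act, Category.assoc, Category.assoc, h1,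
      ← MonoidalCategory.whiskerLeft_comp_assoc, h1, MonoidalCategory.whiskerLeft_comp_assoc,
      associator_naturality_right_assoc]

variable {a} in
/-- Invariant functions on an invariant open are the invariant functions of the restricted action. -/
theorem invOn_iff {U : X.left.Opens} {Xo : Over (Spec (CommRingCat.of k))} {j : Xo ⟶ X} [IsOpenImmersion j.left]
    (hU : U ≤ j.left.opensRange) (hj : (⊤ : Xo.left.Opens) = j.left ⁻¹ᵁ U)
    {aU : AlgGrp.Action G Xo} (haU : aU.act ≫ j = (G ◁ j) ≫ a.act) (r : Γ(X.left, U)) :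
    InvOn a U r ↔ aU.act.left.appTop (j.left.appLE U ⊤ hj.le r) =
      (snd G Xo).left.appTop (j.left.appLE U ⊤ hj.le r) := by
  rw [← AffAct15.appLE_top_eq_iff (W := aU.act.left ⁻¹ᵁ ⊤ ⊓ (snd G Xo).left ⁻¹ᵁ ⊤) _ _ (by simp) inf_le_left
    inf_le_right]
  exact (NRQ21.isInvSection_iff j haU U hU ⊤ hj r).symm

theorem resT_algebraMap (U : X.left.Opens) (c : k) :
    resT U (algebraMap k Γ(X.left, U) c) = DiagGL.alg (Over.mk (U.ι ≫ X.hom)) c := by
  rw [HomSch19.algebraMap_apply, ← CommRingCat.comp_apply, Scheme.Hom.appLE_comp_appLE]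
  exact (ConcreteCategory.congr_hom ((U.ι ≫ X.hom).app_eq_appLE (U := ⊤)) _).symm

/-- The invariant functions of an affine invariant open are finitely generated. -/
theorem exists_generators [IsAffine G.left] {A : Type u} [CommRing A] [HopfAlgebra k A]
    (eG : CoactBr.sp k A ⟶ G) [IsMonHom eG] [IsIso eG] (hG : HopfRep.IsLinearlyReductive k A)
    [LocallyOfFiniteType X.hom] {U : X.left.Opens} (haff : IsAffineOpen U)
    (hU : a.act.left ⁻¹ᵁ U = (snd G X).left ⁻¹ᵁ U) :
    ∃ s : Finset Γ(X.left, U), (∀ h ∈ s, InvOn a U h) ∧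
      ∀ r, InvOn a U r → r ∈ Algebra.adjoin k (s : Set Γ(X.left, U)) := by
  classical
  obtain ⟨aU, haU⟩ := exists_restrict a U hU
  let Xo : Over (Spec (CommRingCat.of k)) := Over.mk (U.ι ≫ X.hom)
  haveI : IsAffine Xo.left := haff
  haveI : LocallyOfFiniteType Xo.hom := inferInstanceAs (LocallyOfFiniteType (U.ι ≫ X.hom))
  obtain ⟨R, _, _, j, _⟩ := AffAct15.exists_affModel Xo
  obtain ⟨hC, hm, hj⟩ := AffAct15.exists_model eG j aU
  haveI : IsIso j.left := inferInstanceAs (IsIso ((Over.forget _).map j))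
  haveI : LocallyOfFiniteType (CoactBr.sp k R).hom := by rw [← Over.w j]; infer_instance
  haveI : Algebra.FiniteType k R :=
    RingHom.finiteType_algebraMap.1 ((HasRingHomProperty.Spec_iff (P := @LocallyOfFiniteType)).1 ‹_›)
  obtain ⟨gen, hgen⟩ := (Subalgebra.fg_iff_finiteType (S := GLin.invariants k A R)).2
    (AffAct15.finiteType_invariants (A := A) (R := R) hG)
  let e : Γ(X.left, U) ≃+* R := (RingEquiv.ofBijective (resT U).hom (resT_bijective U)).trans
    (RingEquiv.ofBijective (AffAct15.fn j) AffAct15.fn_bijective).symm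
  have he : ∀ r, AffAct15.fn j (e r) = resT U r := fun r =>
    (RingEquiv.ofBijective (AffAct15.fn j) AffAct15.fn_bijective).apply_symm_apply _
  have hinv : ∀ r, InvOn a U r ↔ e r ∈ GLin.invariants k A R := fun r => by
    haveI : IsOpenImmersion (Over.homMk U.ι rfl : Xo ⟶ X).left := inferInstanceAs (IsOpenImmersion U.ι)
    rw [invOn_iff (U := U) (j := (Over.homMk U.ι rfl : Xo ⟶ X)) (by show U ≤ U.ι.opensRange; rw [U.opensRange_ι])
      U.ι_preimage_self.symm haU, AffAct15.mem_invariants_iff hj, he]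
    rfl
  have hec : ∀ c, e (algebraMap k _ c) = algebraMap k R c := fun c => AffAct15.fn_bijective.1 (by
    rw [he, resT_algebraMap, AffAct15.fn, DiagGL.ev_algebraMap])
  let eA : Γ(X.left, U) ≃ₐ[k] R := AlgEquiv.ofRingEquiv (f := e) hec
  refine ⟨gen.image eA.symm, fun h hh => ?_, fun r hr => ?_⟩
  · obtain ⟨x, hx, rfl⟩ := Finset.mem_image.1 hh
    rw [hinv, show e (eA.symm x) = x from eA.apply_symm_apply x]
    exact hgen.le (Algebra.subset_adjoin hx)
  · have h1 := hgen.ge ((hinv r).1 hr)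
    have h2 : eA.symm (e r) ∈ (Algebra.adjoin k (gen : Set R)).map eA.symm.toAlgHom := ⟨_, h1, rfl⟩
    rw [AlgHom.map_adjoin, show eA.symm (e r) = r from eA.symm_apply_apply r] at h2
    rw [Finset.coe_image]
    exact h2

variable {a} (B : GLinSh.LinBun G a)

/-- Ratios of the family by a member. -/
def ratios {N : ℕ} {κ : Type*} (g : κ → Γ(B.V.left, ⊤)) (i : κ) : Set Γ(X.left, nv B N (g i)) :=
  {q | ∃ j, GLinSh.resTop B.π (nv B N (g i)) (g j) =
    B.π.left.app (nv B N (g i)) q * GLinSh.resTop B.π (nv B N (g i)) (g i)}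

/-- Finitely many invariant sections of one weight presenting the semi-stable locus. -/
theorem exists_data [IsAffine G.left] {A : Type u} [CommRing A] [HopfAlgebra k A]
    (eG : CoactBr.sp k A ⟶ G) [IsMonHom eG] [IsIso eG] (hG : HopfRep.IsLinearlyReductive k A)
    [LocallyOfFiniteType X.hom] [CompactSpace X.left] :
    ∃ (N s : ℕ) (g : Fin (s + 1) → Γ(B.V.left, ⊤)) (I : Set (Fin (s + 1))), 1 ≤ N ∧
      (∀ i, B.IsInvSection N (g i)) ∧ (∀ i ∈ I, IsAffineOpen (nv B N (g i))) ∧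
      B.ssLocus = ⋃ i ∈ I, (nv B N (g i) : Set X.left) ∧
      ∀ i ∈ I, ∀ r, InvOn a (nv B N (g i)) r → r ∈ Algebra.adjoin k (ratios B (N := N) g i) := by
  classical
  haveI := noetherianSpace_of_finiteType (X := X)
  have hpt : ∀ x : B.ssLocus, ∃ (n : ℕ) (f : Γ(B.V.left, ⊤)), 1 ≤ n ∧ B.IsInvSection n f ∧
      IsAffineOpen (nv B n f) ∧ x.1 ∈ nv B n f := by
    rintro ⟨x, n, f, hn, hf, hx, U, hU, hUa⟩
    have : U = nv B n f := TopologicalSpace.Opens.ext (hU.trans (coe_nv B hf.1).symm)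
    refine ⟨n, f, hn, hf, this ▸ hUa, ?_⟩
    show x ∈ (nv B n f : Set X.left)
    rw [coe_nv B hf.1]
    exact hx
  choose n f hn hf haff hmem using hpt
  obtain ⟨T, hT⟩ := (TopologicalSpace.NoetherianSpace.isCompact B.ssLocus).elim_finite_subcover
    (fun x : B.ssLocus => (nv B (n x) (f x) : Set X.left)) (fun x => (nv B (n x) (f x)).2)
    (fun x hx => Set.mem_iUnion.2 ⟨⟨x, hx⟩, hmem ⟨x, hx⟩⟩)
  let N₀ := ∏ x ∈ T, n x
  have hdvd : ∀ x : T, ∃ e, 1 ≤ e ∧ e * n x = N₀ := fun x => by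
    obtain ⟨e, he⟩ := Finset.dvd_prod_of_mem n x.2
    refine ⟨e, Nat.pos_of_ne_zero fun h0 => ?_, (mul_comm _ _).trans he.symm⟩
    rw [h0, mul_zero] at he
    exact Finset.prod_ne_zero_iff.2 (fun y _ => Nat.one_le_iff_ne_zero.1 (hn y)) he
  choose e he1 he using hdvd
  let F : T → Γ(B.V.left, ⊤) := fun x => f x ^ e x
  have hFi : ∀ x, B.IsInvSection N₀ (F x) := fun x => ⟨he x ▸ HasWeight.pow B (hf x).1 (e x), by
    show B.lift.act.left.appTop (f x ^ e x) = _
    rw [map_pow, map_pow, show B.lift.act.left.appTop (f x) = _ from (hf x).2]⟩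
  have hFnv : ∀ x, nv B N₀ (F x) = nv B (n x) (f x) := fun x => he x ▸ nv_pow B (hf x).1 (e x) (he1 x)
  have hFaff : ∀ x, IsAffineOpen (nv B N₀ (F x)) := fun x => hFnv x ▸ haff x
  choose gen hgen hgenall using fun x => exists_generators a eG hG (hFaff x) (preimage_nv B (hFi x))
  choose K hK using fun (p : Σ x : T, gen x) => exists_inv_extend B (hFi p.1) (hgen p.1 p.2 p.2.2)
  let M := Finset.univ.sup K + 1
  choose g hg hge using fun p => hK p M ((Finset.le_sup (f := K) (Finset.mem_univ p)).trans (Nat.le_succ _))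
  let κ := Option (T ⊕ Σ x : T, gen x)
  let g' : κ → Γ(B.V.left, ⊤) := fun i => i.elim 0 (Sum.elim (fun x => F x ^ M) g)
  have hg' : ∀ i, B.IsInvSection (M * N₀) (g' i) := by
    rintro (_ | x | p)
    · exact ⟨HasWeight.zero B _, by show B.lift.act.left.appTop 0 = (snd G B.V).left.appTop 0; rw [map_zero, map_zero]⟩
    · exact ⟨HasWeight.pow B (hFi x).1 M, by
        show B.lift.act.left.appTop (F x ^ M) = (snd G B.V).left.appTop (F x ^ M)
        rw [map_pow B.lift.act.left.appTop.hom, map_pow (snd G B.V).left.appTop.hom]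
        exact congrArg (· ^ M) (hFi x).2⟩
    · exact hg p
  obtain ⟨s, hs⟩ : ∃ s, Fintype.card κ = s + 1 := ⟨_, (Nat.succ_pred_eq_of_pos Fintype.card_pos).symm⟩
  let E : κ ≃ Fin (s + 1) := Fintype.equivFinOfCardEq hs
  have hMnv : ∀ x, nv B (M * N₀) (g' (some (.inl x))) = nv B N₀ (F x) := fun x =>
    nv_pow B (hFi x).1 M (Nat.succ_pos _)
  refine ⟨M * N₀, s, g' ∘ E.symm, Set.range fun x => E (some (.inl x)), ?_, fun i => hg' _, ?_, ?_, ?_⟩
  · exact Nat.mul_pos (Nat.succ_pos _) (Finset.prod_pos fun x _ => hn x)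
  · rintro _ ⟨x, rfl⟩
    simp only [Function.comp_apply, Equiv.symm_apply_apply]
    exact (hMnv x).symm ▸ hFaff x
  · refine Set.Subset.antisymm ?_ ?_
    · intro z hz
      obtain ⟨x, hx, hzx⟩ := Set.mem_iUnion₂.1 (hT hz)
      refine Set.mem_iUnion₂.2 ⟨_, ⟨⟨x, hx⟩, rfl⟩, ?_⟩
      simp only [Function.comp_apply, Equiv.symm_apply_apply]
      rw [hMnv, hFnv]
      exact hzx
    · refine Set.iUnion₂_subset ?_
      rintro _ ⟨x, rfl⟩ z hz
      simp only [Function.comp_apply, Equiv.symm_apply_apply] at hz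
      rw [hMnv] at hz
      exact ⟨N₀, F x, Nat.one_le_iff_ne_zero.2 (Finset.prod_ne_zero_iff.2 fun y _ => Nat.one_le_iff_ne_zero.1 (hn y)), hFi x,
        (coe_nv B (hFi x).1).le hz, nv B N₀ (F x), coe_nv B (hFi x).1, hFaff x⟩
  · rintro _ ⟨x, rfl⟩
    have main : ∀ i : κ, i = some (.inl x) → ∀ r, InvOn a (nv B (M * N₀) (g' i)) r →
        r ∈ Algebra.adjoin k {q | ∃ j, GLinSh.resTop B.π (nv B (M * N₀) (g' i)) (g' j) =
          B.π.left.app (nv B (M * N₀) (g' i)) q * GLinSh.resTop B.π (nv B (M * N₀) (g' i)) (g' i)} := by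
      rintro i rfl
      have aux : ∀ U : X.left.Opens, U = nv B N₀ (F x) → ∀ r, InvOn a U r →
          r ∈ Algebra.adjoin k {q | ∃ j, GLinSh.resTop B.π U (g' j) =
            B.π.left.app U q * GLinSh.resTop B.π U (F x ^ M)} := by
        rintro U rfl r hr
        refine Algebra.adjoin_mono ?_ (hgenall x r hr)
        intro h hh
        exact ⟨some (.inr ⟨x, ⟨h, hh⟩⟩), hge ⟨x, ⟨h, hh⟩⟩⟩
      exact aux _ (hMnv x)
    intro r hr
    have hcast := main (E.symm (E (some (.inl x)))) (E.symm_apply_apply _) r hr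
    refine Algebra.adjoin_mono ?_ hcast
    rintro q ⟨j, hj⟩
    exact ⟨E j, by simpa using hj⟩

end Groth.Agent.GITSS15
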