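import Groth.Agent.Lib.GITSS15.Data
import Groth.Agent.Lib.Twist.UniversalExist
import Groth.Agent.Lib.ProjSpace.Basic

/-!
# The morphism to projective space given by invariant sections
-/

set_option autoImplicit false
set_option linter.style.haveILetI false
set_option backward.isDefEq.respectTransparency.types false
universe u

open CategoryTheory Limits MonoidalCategory CartesianMonoidalCategory MonObj AlgebraicGeometry TopologicalSpace

noncomputable section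

namespace Groth.Agent.GITSS15

open Groth.Agent.WtMu19 Groth.Agent.GITHM15
open Groth.Agent.FixLine19 (str)
open Groth.Agent.GITQuot (resT resT_bijective)

attribute [local instance] HomSch19.algW

/-- Projective space over the field. -/
abbrev PP (k : Type u) [Field k] (s : ℕ) : Over (Spec (CommRingCat.of k)) := Over.mk (CohB1.ProjSpace.toSpec s k)

/-- The chart domain. -/
abbrev DP (k : Type u) [Field k] {s : ℕ} (i : Fin (s + 1)) : (CohB1.ProjSpace s k).Opens :=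
  Proj.basicOpen (CohB1.polyGrading s k) (MvPolynomial.X i)

variable {k : Type u} [Field k] {G X : Over (Spec (CommRingCat.of k))} [GrpObj G] {a : AlgGrp.Action G X}
  (B : GLinSh.LinBun G a)

/-- Restricting twice. -/
theorem resT_res {U W : X.left.Opens} (h : W ≤ U) (r : Γ(X.left, U))
    (e : (⊤ : (W : Scheme.{u}).Opens) ≤ X.left.homOfLE h ⁻¹ᵁ ⊤) :
    (X.left.homOfLE h).appLE ⊤ ⊤ e (resT U r) = resT W (resX h r) := by
  rw [resX, ← CommRingCat.comp_apply, ← CommRingCat.comp_apply, Scheme.Hom.appLE_comp_appLE,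
    Scheme.Hom.map_appLE]
  exact ConcreteCategory.congr_hom (HMNum19.appLE_congr (X.left.homOfLE_ι h) _) r

theorem ratio_res {f g : Γ(B.V.left, ⊤)} {U W : X.left.Opens} (h : W ≤ U) {r : Γ(X.left, U)}
    (e : GLinSh.resTop B.π U g = B.π.left.app U r * GLinSh.resTop B.π U f) :
    GLinSh.resTop B.π W g = B.π.left.app W (resX h r) * GLinSh.resTop B.π W f := by
  have := congrArg (GLinSh.res B.π h) e
  rw [res_mul, res_resTop, res_resTop] at this
  erw [res_app] at this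
  exact this

set_option maxHeartbeats 1600000 in
/-- The morphism to projective space given by invariant sections of one weight. -/
theorem exists_morph {N s : ℕ} (g : Fin (s + 1) → Γ(B.V.left, ⊤)) (hg : ∀ i, B.IsInvSection N (g i))
    (I : Set (Fin (s + 1))) (U : X.left.Opens) (hle : ∀ i ∈ I, nv B N (g i) ≤ U)
    (hcov : ∀ x ∈ U, ∃ i ∈ I, x ∈ nv B N (g i))
    (aU : AlgGrp.Action G (Over.mk (U.ι ≫ X.hom))) (jU : Over.mk (U.ι ≫ X.hom) ⟶ X) (hjU : jU.left = U.ι)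
    (haU : aU.act ≫ jU = (G ◁ jU) ≫ a.act) :
    ∃ φ : Over.mk (U.ι ≫ X.hom) ⟶ PP k s, GIT.IsInvariant aU φ ∧
      (∀ i ∈ I, φ.left ⁻¹ᵁ DP k i = U.ι ⁻¹ᵁ nv B N (g i)) ∧
      ∀ i ∈ I, ∀ (e : U.ι ⁻¹ᵁ nv B N (g i) ≤ φ.left ⁻¹ᵁ DP k i) (r : Γ(X.left, nv B N (g i))),
        r ∈ Algebra.adjoin k (ratios B (N := N) g i) →
          U.ι.appLE (nv B N (g i)) (U.ι ⁻¹ᵁ nv B N (g i)) le_rfl r ∈
            Set.range (φ.left.appLE (DP k i) (U.ι ⁻¹ᵁ nv B N (g i)) e) := by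
  obtain rfl : jU = Over.homMk U.ι rfl := Over.OverMorphism.ext hjU
  let Xo : Over (Spec (CommRingCat.of k)) := Over.mk (U.ι ≫ X.hom)
  let jU : Xo ⟶ X := Over.homMk U.ι rfl
  haveI : IsOpenImmersion jU.left := inferInstanceAs (IsOpenImmersion U.ι)
  let 𝒜 := CohB1.polyGrading s k
  let e : ULift.{u} (Fin (s + 1)) → MvPolynomial (Fin (s + 1)) k := fun m => MvPolynomial.X m.down
  have he : ∀ m, e m ∈ 𝒜 1 := fun m => ProjSpace.X_mem' s k m.down
  have hgen : Algebra.adjoin k (Set.range e) = ⊤ := by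
    rw [show Set.range e = Set.range (MvPolynomial.X : Fin (s + 1) → _) from Set.ext fun p =>
      ⟨fun ⟨m, hm⟩ => ⟨m.down, hm⟩, fun ⟨m, hm⟩ => ⟨⟨m⟩, hm⟩⟩]
    exact MvPolynomial.adjoin_range_X
  choose q hq using fun i j => exists_ratio_eq B (hg i).1 (hg j).1
  have hqinv : ∀ i j, InvOn a (nv B N (g i)) (q i j) := fun i j => invOn_ratio B (hg i) (hg j).2 (hq i j)
  have hqone : ∀ i, q i i = 1 := fun i => ratio_unique B (hg i).1 le_rfl (hq i i) (by rw [map_one, _root_.one_mul])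
  let evq : ∀ i, MvPolynomial (Fin (s + 1)) k →ₐ[k] Γ(X.left, nv B N (g i)) := fun i => MvPolynomial.aeval (q i)
  let ψ : ∀ i, MvPolynomial (Fin (s + 1)) k →+* Γ((nv B N (g i)).toScheme, ⊤) := fun i =>
    (resT (nv B N (g i))).hom.comp (evq i).toRingHom
  have hψe : ∀ i j, ψ i (MvPolynomial.X j) = resT (nv B N (g i)) (q i j) := fun i j =>
    congrArg (resT (nv B N (g i))) (MvPolynomial.aeval_X (q i) j)
  have hψ1 : ∀ i, ψ i (MvPolynomial.X i) = 1 := fun i => by rw [hψe, hqone, map_one]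
  let chm : ∀ i, (nv B N (g i)).toScheme ⟶ Proj 𝒜 := fun i =>
    ProjUP.chartHom 𝒜 (ProjSpace.X_mem' s k i) (ψ i) (hψ1 i)
  have htop : ∀ i, (⊤ : (nv B N (g i)).toScheme.Opens) ≤ chm i ⁻¹ᵁ DP k i := fun i =>
    ProjUP.top_le_preimage_chartHom 𝒜 (ProjSpace.X_mem' s k i) (ψ i) (hψ1 i)
  have hbase : ∀ i, chm i ≫ ProjUP.toBase 𝒜 = (nv B N (g i)).ι ≫ X.hom := fun i => by
    refine ext_of_isAffine ?_
    rw [← cancel_epi (Scheme.ΓSpecIso (CommRingCat.of k)).inv]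
    refine CommRingCat.hom_ext (RingHom.ext fun c => ?_)
    have h := ProjUP.ev_algebraMap 𝒜 (ProjSpace.X_mem' s k i) (chm i) ⊤ (htop i) c
    rw [ProjUP.ev_chartHom, M1.ores_id] at h
    refine h.symm.trans ?_
    show resT (nv B N (g i)) (evq i (algebraMap k _ c)) = _
    rw [(evq i).commutes, resT_algebraMap]
    rfl
  have hcompat : ∀ (i l : Fin (s + 1)) (O : X.left.Opens) (hi : O ≤ nv B N (g i)) (hl : O ≤ nv B N (g l)),
      X.left.homOfLE hi ≫ chm i = X.left.homOfLE hl ≫ chm l := by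
    intro i l O hi hl
    refine ProjUP.ext_of_ev 𝒜 e he hgen ?_ fun x => ?_
    · rw [Category.assoc, Category.assoc, hbase, hbase, Scheme.homOfLE_ι_assoc, Scheme.homOfLE_ι_assoc]
    have hev : ∀ (p : Fin (s + 1)) (hp : O ≤ nv B N (g p))
        (hp' : (⊤ : O.toScheme.Opens) ≤ (X.left.homOfLE hp ≫ chm p) ⁻¹ᵁ DP k p) (j : Fin (s + 1)),
        ProjUP.ev 𝒜 (ProjSpace.X_mem' s k p) (X.left.homOfLE hp ≫ chm p) ⊤ hp' (MvPolynomial.X j) =
          resT O (resX hp (q p j)) := fun p hp hp' j => by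
      rw [← ProjUP.ev_comp 𝒜 (ProjSpace.X_mem' s k p) (X.left.homOfLE hp) (chm p) (htop p) le_top,
        ProjUP.ev_chartHom, hψe, resT_res]
    have hl' : (⊤ : O.toScheme.Opens) ≤ (X.left.homOfLE hl ≫ chm l) ⁻¹ᵁ DP k l :=
      fun z _ => htop l (trivial : _ ∈ (⊤ : (nv B N (g l)).toScheme.Opens))
    have hi' : (⊤ : O.toScheme.Opens) ≤ (X.left.homOfLE hi ≫ chm i) ⁻¹ᵁ DP k i :=
      fun z _ => htop i (trivial : _ ∈ (⊤ : (nv B N (g i)).toScheme.Opens))
    have hmul : ∀ j, resX hi (q i j) * resX hl (q l i) = resX hl (q l j) := fun j => by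
      refine ratio_unique B (hg l).1 hl (h := g j) ?_ (ratio_res B hl (hq l j))
      rw [map_mul, _root_.mul_assoc, ← ratio_res B hl (hq l i)]
      exact ratio_res B hi (hq i j)
    have hu : IsUnit (resT O (resX hl (q l i))) := RingHom.isUnit_map _ <| IsUnit.of_mul_eq_one (resX hi (q i l)) (by
      rw [mul_comm, hmul l, hqone, resX, map_one])
    have hli : (⊤ : O.toScheme.Opens) ≤ (X.left.homOfLE hl ≫ chm l) ⁻¹ᵁ DP k i := by
      have hb := ProjUP.basicOpen_ev 𝒜 (ProjSpace.X_mem' s k l) (X.left.homOfLE hl ≫ chm l) ⊤ hl'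
        (ProjSpace.X_mem' s k i)
      rw [hev, Scheme.basicOpen_of_isUnit _ hu, top_inf_eq] at hb
      exact hb.le
    refine ⟨⟨i⟩, ⊤, hi', hli, trivial, fun m => ?_⟩
    refine hu.mul_right_cancel ?_
    rw [← hev l hl hl' i]
    refine Eq.trans ?_ (ProjUP.ev_mul_ev 𝒜 _ (ProjSpace.X_mem' s k l) (ProjSpace.X_mem' s k i) (he m) ⊤ hl' hli).symm
    rw [hev l hl hl', hev i hi hi', hev l hl hl', ← map_mul, hmul]
  let J := Σ i : I, {O : X.left.Opens // O ≤ nv B N (g i)}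
  obtain ⟨r, hr, -⟩ := EGA2.existsUnique_glue
    (fun p : J => X.left.homOfLE (p.2.2.trans (hle p.1 p.1.2)))
    (fun p : J => X.left.homOfLE p.2.2 ≫ chm p.1)
    (fun x => by
      obtain ⟨i, hi, hx⟩ := hcov x.1 x.2
      refine ⟨⟨⟨i, hi⟩, nv B N (g i), le_rfl⟩, ?_⟩
      rw [Scheme.opensRange_homOfLE]
      exact hx)
    (fun p p' => by
      refine ⟨⟨p.1, p.2.1 ⊓ p'.2.1, inf_le_left.trans p.2.2⟩, X.left.homOfLE inf_le_left,
        X.left.homOfLE inf_le_right, Scheme.homOfLE_homOfLE _ _ _, Scheme.homOfLE_homOfLE _ _ _, ?_, ?_, ?_⟩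
      · simp only [Scheme.opensRange_homOfLE]
        rfl
      · rw [← Category.assoc, Scheme.homOfLE_homOfLE]
      · rw [← Category.assoc, Scheme.homOfLE_homOfLE]
        exact hcompat _ _ _ _ _)
  have hrb : r ≫ ProjUP.toBase 𝒜 = U.ι ≫ X.hom := by
    refine Scheme.hom_ext_of_forall _ _ fun x => ?_
    obtain ⟨i, hi, hx⟩ := hcov x.1 x.2
    refine ⟨U.ι ⁻¹ᵁ nv B N (g i), hx, ?_⟩
    let c := X.left.homOfLE (hle i hi)
    have hc : c ≫ r = X.left.homOfLE le_rfl ≫ chm i := hr ⟨⟨i, hi⟩, nv B N (g i), le_rfl⟩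
    have hrange : Set.range (U.ι ⁻¹ᵁ nv B N (g i)).ι ⊆ Set.range c := by
      rw [Scheme.Opens.range_ι, show Set.range c = (c.opensRange : Set _) from rfl, Scheme.opensRange_homOfLE]
    rw [← IsOpenImmersion.lift_fac c _ hrange, Category.assoc, Category.assoc, reassoc_of% hc, hbase,
      Scheme.homOfLE_ι_assoc, Scheme.homOfLE_ι_assoc]
  let φ : Xo ⟶ PP k s := Over.homMk r hrb
  have hW : ∀ i ∈ I, U.ι ⁻¹ᵁ nv B N (g i) ≤ r ⁻¹ᵁ DP k i := by
    intro i hi x hx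
    have h := htop i (x := ⟨x.1, hx⟩) trivial
    have hc : X.left.homOfLE (hle i hi) ≫ r = chm i := by
      rw [hr ⟨⟨i, hi⟩, nv B N (g i), le_rfl⟩, Scheme.homOfLE_rfl, Category.id_comp]
    rw [← hc] at h
    have h' : r (X.left.homOfLE (hle i hi) ⟨x.1, hx⟩) ∈ DP k i := h
    rwa [show X.left.homOfLE (hle i hi) ⟨x.1, hx⟩ = x from Subtype.ext (by simp)] at h'
  have hev : ∀ (i : Fin (s + 1)) (hi : i ∈ I) (p : MvPolynomial (Fin (s + 1)) k),
      ProjUP.ev 𝒜 (ProjSpace.X_mem' s k i) r (U.ι ⁻¹ᵁ nv B N (g i)) (hW i hi) p =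
        U.ι.appLE (nv B N (g i)) (U.ι ⁻¹ᵁ nv B N (g i)) le_rfl (evq i p) := by
    intro i hi p
    let c := X.left.homOfLE (hle i hi)
    have hc : c ≫ r = chm i := by
      rw [hr ⟨⟨i, hi⟩, nv B N (g i), le_rfl⟩, Scheme.homOfLE_rfl, Category.id_comp]
    have hcW : (⊤ : (nv B N (g i)).toScheme.Opens) ≤ c ⁻¹ᵁ (U.ι ⁻¹ᵁ nv B N (g i)) := fun z _ => by
      show (c ≫ U.ι) z ∈ nv B N (g i)
      rw [Scheme.homOfLE_ι]
      exact z.2
    have hbij := NRQ21.appLE_bijective c (U := U.ι ⁻¹ᵁ nv B N (g i)) (V := ⊤)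
      (by rw [Scheme.opensRange_homOfLE]) (le_antisymm hcW le_top)
    refine hbij.1 ?_
    rw [ProjUP.ev_comp 𝒜 (ProjSpace.X_mem' s k i) c r (hW i hi) hcW, ← CommRingCat.comp_apply,
      Scheme.Hom.appLE_comp_appLE]
    have h2 : ProjUP.ev 𝒜 (ProjSpace.X_mem' s k i) (c ≫ r) ⊤ (hcW.trans (c.preimage_mono (hW i hi))) p = ψ i p := by
      simp only [hc]
      exact ProjUP.ev_chartHom 𝒜 (ProjSpace.X_mem' s k i) (ψ i) (hψ1 i) p
    rw [h2]
    exact (ConcreteCategory.congr_hom (HMNum19.appLE_congr (X.left.homOfLE_ι (hle i hi)) _) (evq i p)).symm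
  refine ⟨φ, ?_, fun i hi => le_antisymm ?_ (hW i hi), ?_⟩
  · -- invariance
    apply Over.OverMorphism.ext
    show aU.act.left ≫ r = (snd G Xo).left ≫ r
    refine ProjUP.ext_of_ev 𝒜 e he hgen (by rw [Category.assoc, Category.assoc, hrb]
                                            exact (Over.w aU.act).trans (Over.w (snd G Xo)).symm) fun z => ?_
    obtain ⟨i, hi, hx⟩ := hcov _ ((snd G Xo).left z).2
    let W := U.ι ⁻¹ᵁ nv B N (g i)
    have w1 : aU.act.left ≫ U.ι = (G ◁ jU).left ≫ a.act.left :=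
      congrArg (fun m : G ⊗ Xo ⟶ X => m.left) haU
    have w2 : (snd G Xo).left ≫ U.ι = (G ◁ jU).left ≫ (snd G X).left :=
      congrArg (fun m : G ⊗ Xo ⟶ X => m.left) (whiskerLeft_snd G jU).symm
    have hO : (snd G Xo).left ⁻¹ᵁ W = aU.act.left ⁻¹ᵁ W := by
      show ((snd G Xo).left ≫ U.ι) ⁻¹ᵁ nv B N (g i) = (aU.act.left ≫ U.ι) ⁻¹ᵁ nv B N (g i)
      rw [w1, w2, Scheme.Hom.comp_preimage, Scheme.Hom.comp_preimage, preimage_nv B (hg i)]
    refine ⟨⟨i⟩, (snd G Xo).left ⁻¹ᵁ W, hO.le.trans (aU.act.left.preimage_mono (hW i hi)),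
      (snd G Xo).left.preimage_mono (hW i hi), hx, fun m => ?_⟩
    rw [← ProjUP.ev_comp 𝒜 (he ⟨i⟩) aU.act.left r (hW i hi) hO.le,
      ← ProjUP.ev_comp 𝒜 (he ⟨i⟩) (snd G Xo).left r (hW i hi) le_rfl, hev i hi,
      show evq i (e m) = q i m.down from MvPolynomial.aeval_X (q i) m.down, ← CommRingCat.comp_apply,
      ← CommRingCat.comp_apply, Scheme.Hom.appLE_comp_appLE, Scheme.Hom.appLE_comp_appLE]
    have hD : (snd G Xo).left ⁻¹ᵁ W ≤
        (G ◁ jU).left ⁻¹ᵁ (a.act.left ⁻¹ᵁ nv B N (g i) ⊓ (snd G X).left ⁻¹ᵁ nv B N (g i)) := by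
      intro y hy
      refine ⟨?_, ?_⟩
      · show ((G ◁ jU).left ≫ a.act.left) y ∈ nv B N (g i)
        rw [← w1]; exact hO.le hy
      · show ((G ◁ jU).left ≫ (snd G X).left) y ∈ nv B N (g i)
        rw [← w2]; exact hy
    have k0 := congrArg ((G ◁ jU).left.appLE _ ((snd G Xo).left ⁻¹ᵁ W) hD) (show _ = _ from hqinv i m.down)
    rw [← CommRingCat.comp_apply, ← CommRingCat.comp_apply, Scheme.Hom.appLE_comp_appLE,
      Scheme.Hom.appLE_comp_appLE] at k0
    rw [HMNum19.appLE_congr w1, HMNum19.appLE_congr w2]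
    exact k0
  · intro x hx
    obtain ⟨l, hl, hxl⟩ := hcov x.1 x.2
    let W := U.ι ⁻¹ᵁ nv B N (g l)
    have hb := ProjUP.basicOpen_ev 𝒜 (ProjSpace.X_mem' s k l) r W (hW l hl) (ProjSpace.X_mem' s k i)
    rw [hev l hl, show evq l (MvPolynomial.X i) = q l i from MvPolynomial.aeval_X (q l) i,
      Scheme.basicOpen_appLE] at hb
    have h1 : x ∈ W ⊓ U.ι ⁻¹ᵁ X.left.basicOpen (q l i) := hb.ge ⟨hxl, hx⟩
    obtain ⟨r', hr', hrr⟩ := exists_ratio B (hg l).1 (hg i).1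
    have hsame : X.left.basicOpen (q l i) ≤ nv B N (g i) := by
      intro y hy
      obtain ⟨U', hyU', yc, hyc⟩ := B.atlas.cover y
      obtain ⟨cl, hcl⟩ := coef_of_hasWeight B (hg l).1 hyc
      obtain ⟨ci, hci⟩ := coef_of_hasWeight B (hg i).1 hyc
      have hyl : y ∈ U' ⊓ nv B N (g l) := ⟨hyU', X.left.basicOpen_le _ hy⟩
      have hres : Coef B N (g i) yc inf_le_left
          (resX (inf_le_right : U' ⊓ nv B N (g l) ≤ nv B N (g l)) (q l i) * resX inf_le_left cl) := by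
        have e1 := ratio_res B (inf_le_right : U' ⊓ nv B N (g l) ≤ nv B N (g l)) (hq l i)
        have e2 := hcl.res B (inf_le_left : U' ⊓ nv B N (g l) ≤ U')
        rw [Coef] at e2 ⊢
        rw [e1, e2, map_mul, _root_.mul_assoc]
      have e3 := (hci.res B inf_le_left).unique B hyc hres
      have : y ∈ X.left.basicOpen (resX (inf_le_left : U' ⊓ nv B N (g l) ≤ U') ci) := by
        rw [e3, Scheme.basicOpen_mul, basicOpen_resX, basicOpen_resX]
        exact ⟨⟨hyl, hy⟩, hyl, (nv_inf B hyc hcl).le hyl⟩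
      rw [basicOpen_resX, ← nv_inf B hyc hci] at this
      exact this.2.2
    exact hsame h1.2
  · intro i hi he' r' hr'
    let T : Subalgebra k Γ(X.left, nv B N (g i)) := (evq i).range
    have hT : Algebra.adjoin k (ratios B (N := N) g i) ≤ T := by
      refine Algebra.adjoin_le ?_
      rintro x ⟨j, hj⟩
      refine ⟨MvPolynomial.X j, ?_⟩
      show evq i (MvPolynomial.X j) = x
      rw [show evq i (MvPolynomial.X j) = q i j from MvPolynomial.aeval_X (q i) j]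
      exact ratio_unique B (hg i).1 le_rfl (hq i j) hj
    obtain ⟨p, rfl⟩ := hT hr'
    exact ⟨_, (ProjUP.ev_apply 𝒜 (ProjSpace.X_mem' s k i) r _ (hW i hi) p).symm.trans (hev i hi p)⟩

end Groth.Agent.GITSS15
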