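import Groth.Agent.Lib.GITSS15.Morph
import Groth.Agent.Lib.RelAmple18.Ops
import Groth.Agent.Lib.Twist.Ample
import Groth.Agent.Lib.Twist.ProjSpace
import Mathlib.AlgebraicGeometry.IdealSheaf.Subscheme
import Mathlib.AlgebraicGeometry.QuasiAffine

/-!
# The quotient of the semi-stable locus
-/

set_option autoImplicit false
set_option linter.style.haveILetI false
set_option backward.isDefEq.respectTransparency.types false
universe u

open CategoryTheory Limits MonoidalCategory CartesianMonoidalCategory MonObj AlgebraicGeometry TopologicalSpace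

noncomputable section

namespace Groth.Agent.GITSS15

open Groth.Agent.WtMu19 Groth.Agent.GITHM15
open Groth.Agent.GITQuot (resT resT_bijective isInvSection_app exists_pullback_action)

attribute [local instance] HomSch19.algW

variable {k : Type u} [Field k] {G X : Over (Spec (CommRingCat.of k))} [GrpObj G] {a : AlgGrp.Action G X}
  (B : GLinSh.LinBun G a)

set_option maxHeartbeats 1600000 in
/-- The semi-stable locus has a good quotient inside a projective space. -/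
theorem exists_quot [IsAffine G.left] {A : Type u} [CommRing A] [HopfAlgebra k A]
    (eG : CoactBr.sp k A ⟶ G) [IsMonHom eG] [IsIso eG] (hG : HopfRep.IsLinearlyReductive k A)
    [LocallyOfFiniteType X.hom] [CompactSpace X.left] (U : X.left.Opens) (hU : (U : Set X.left) = B.ssLocus)
    (aU : AlgGrp.Action G (Over.mk (U.ι ≫ X.hom))) (jU : Over.mk (U.ι ≫ X.hom) ⟶ X) (hjU : jU.left = U.ι)
    (haU : aU.act ≫ jU = (G ◁ jU) ≫ a.act) :
    ∃ (Y : Over (Spec (CommRingCat.of k))) (φ : Over.mk (U.ι ≫ X.hom) ⟶ Y),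
      AffAct15.IsLocAffQuot aU φ ∧ IsAffineHom φ.left ∧ IsSeparated Y.hom ∧ LocallyOfFiniteType Y.hom ∧
      (∃ M : Y.left.Modules, CohB1.IsAmple M) ∧
      ∀ (n : ℕ) (f : Γ(B.V.left, ⊤)), 1 ≤ n → B.IsInvSection n f →
        ∃ V : Y.left.Opens, φ.left ⁻¹ᵁ V = U.ι ⁻¹ᵁ nv B n f := by
  obtain rfl : jU = Over.homMk U.ι rfl := Over.OverMorphism.ext hjU
  obtain ⟨N, s, g, I, hN, hg, haff, hcover, hgen⟩ := exists_data B eG hG
  let Xo : Over (Spec (CommRingCat.of k)) := Over.mk (U.ι ≫ X.hom)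
  let jU : Xo ⟶ X := Over.homMk U.ι rfl
  haveI : IsOpenImmersion jU.left := inferInstanceAs (IsOpenImmersion U.ι)
  have hle : ∀ i ∈ I, nv B N (g i) ≤ U := fun i hi x hx => by
    show x ∈ (U : Set X.left)
    rw [hU, hcover]
    exact Set.mem_iUnion₂.2 ⟨i, hi, hx⟩
  have hcov : ∀ x ∈ U, ∃ i ∈ I, x ∈ nv B N (g i) := fun x hx => by
    have h : x ∈ (U : Set X.left) := hx
    rw [hU, hcover] at h
    obtain ⟨i, hi, hxi⟩ := Set.mem_iUnion₂.1 h
    exact ⟨i, hi, hxi⟩
  obtain ⟨φ₀, hinv₀, hpre, hrange⟩ := exists_morph B g hg I U hle hcov aU (Over.homMk U.ι rfl) rfl haU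
  let O : (CohB1.ProjSpace s k).Opens := ⨆ i : I, DP k (i : Fin (s + 1))
  have hφO : Set.range φ₀.left.base ⊆ Set.range O.ι.base := by
    rw [Scheme.Opens.range_ι]
    rintro _ ⟨x, rfl⟩
    obtain ⟨i, hi, hx⟩ := hcov x.1 x.2
    have : x ∈ φ₀.left ⁻¹ᵁ DP k i := by rw [hpre i hi]; exact hx
    exact Opens.mem_iSup.2 ⟨⟨i, hi⟩, this⟩
  let ψ : U.toScheme ⟶ O.toScheme := IsOpenImmersion.lift O.ι φ₀.left hφO
  have hψ : ψ ≫ O.ι = φ₀.left := IsOpenImmersion.lift_fac _ _ _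
  have hDa : ∀ i : Fin (s + 1), IsAffineOpen (X := CohB1.ProjSpace s k) (DP k i) := fun i =>
    Proj.isAffineOpen_basicOpen _ _ (ProjSpace.X_mem' s k i) Nat.one_pos
  have hD : ∀ i ∈ I, IsAffineOpen (O.ι ⁻¹ᵁ DP k i) := fun i hi =>
    (hDa i).preimage_of_isOpenImmersion O.ι (by rw [O.opensRange_ι]; exact le_iSup_of_le ⟨i, hi⟩ le_rfl)
  have hψpre : ∀ i ∈ I, ψ ⁻¹ᵁ (O.ι ⁻¹ᵁ DP k i) = U.ι ⁻¹ᵁ nv B N (g i) := fun i hi => by
    rw [← Scheme.Hom.comp_preimage, hψ, hpre i hi]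
  have hWaff : ∀ i ∈ I, IsAffineOpen (U.ι ⁻¹ᵁ nv B N (g i)) := fun i hi =>
    (haff i hi).preimage_of_isOpenImmersion U.ι (by rw [U.opensRange_ι]; exact hle i hi)
  haveI : IsAffineHom ψ := by
    refine isAffineHom_of_forall_exists_isAffineOpen ψ fun y => ?_
    obtain ⟨⟨i, hi⟩, hy⟩ := Opens.mem_iSup.1 (show y.1 ∈ O from y.2)
    exact ⟨O.ι ⁻¹ᵁ DP k i, hy, hD i hi, hψpre i hi ▸ hWaff i hi⟩
  let Y : Over (Spec (CommRingCat.of k)) := Over.mk (ψ.imageι ≫ O.ι ≫ CohB1.ProjSpace.toSpec s k)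
  let q : Y.left ⟶ CohB1.ProjSpace s k := ψ.imageι ≫ O.ι
  let φ : Xo ⟶ Y := Over.homMk ψ.toImage (by
    show ψ.toImage ≫ ψ.imageι ≫ O.ι ≫ CohB1.ProjSpace.toSpec s k = U.ι ≫ X.hom
    rw [Scheme.Hom.toImage_imageι_assoc, reassoc_of% hψ]
    exact Over.w φ₀)
  let qO : Y ⟶ PP k s := Over.homMk q (Category.assoc _ _ _)
  haveI : Mono qO := (Over.forget _).mono_of_mono_map (show Mono (ψ.imageι ≫ O.ι) from inferInstance)
  have hφq : φ ≫ qO = φ₀ := Over.OverMorphism.ext (by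
    show ψ.toImage ≫ ψ.imageι ≫ O.ι = φ₀.left
    rw [Scheme.Hom.toImage_imageι_assoc, hψ])
  have hinv : GIT.IsInvariant aU φ := by
    show aU.act ≫ φ = snd G Xo ≫ φ
    rw [← cancel_mono qO, Category.assoc, Category.assoc, hφq]
    exact hinv₀
  haveI : IsAffineHom φ.left := by
    show IsAffineHom ψ.toImage
    haveI : IsAffineHom (ψ.toImage ≫ ψ.imageι) := by rw [Scheme.Hom.toImage_imageι]; infer_instance
    exact IsAffineHom.of_comp ψ.toImage ψ.imageι
  haveI : IsProper (CohB1.ProjSpace.toSpec s k) := ProjSpace.isProper_toSpec s k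
  haveI : IsImmersion q := inferInstanceAs (IsImmersion (ψ.imageι ≫ O.ι))
  haveI : IsSeparated Y.hom := inferInstanceAs (IsSeparated (ψ.imageι ≫ O.ι ≫ CohB1.ProjSpace.toSpec s k))
  haveI : IsLocallyNoetherian (CohB1.ProjSpace s k) :=
    LocallyOfFiniteType.isLocallyNoetherian (CohB1.ProjSpace.toSpec s k)
  haveI : CompactSpace (CohB1.ProjSpace s k) :=
    QuasiCompact.compactSpace_of_compactSpace (CohB1.ProjSpace.toSpec s k)
  haveI : IsNoetherian (CohB1.ProjSpace s k) := ⟨⟩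
  haveI : LocallyOfFiniteType O.ι := inferInstance
  have hlft : LocallyOfFiniteType Y.hom :=
    inferInstanceAs (LocallyOfFiniteType (ψ.imageι ≫ O.ι ≫ CohB1.ProjSpace.toSpec s k))
  refine ⟨Y, φ, ⟨hinv, fun y => ?_⟩, inferInstance, inferInstance, hlft, ?_, ?_⟩
  · obtain ⟨⟨i, hi⟩, hyi⟩ := Opens.mem_iSup.1 (show (ψ.imageι y).1 ∈ O from (ψ.imageι y).2)
    let V : Y.left.Opens := ψ.imageι ⁻¹ᵁ (O.ι ⁻¹ᵁ DP k i)
    have hV : IsAffineOpen V := (hD i hi).preimage ψ.imageι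
    let Y₀ : Over (Spec (CommRingCat.of k)) := Over.mk (V.ι ≫ Y.hom)
    let gV : Y₀ ⟶ Y := Over.homMk V.ι rfl
    refine ⟨Y₀, gV, inferInstanceAs (IsOpenImmersion V.ι), ⟨⟨y, hyi⟩, rfl⟩, hV, ?_⟩
    intro X₁ pr φ₁ sq a₁ e hi₁
    have sq' : IsPullback pr.left φ₁.left φ.left V.ι := sq.map (Over.forget _)
    let W : U.toScheme.Opens := φ.left ⁻¹ᵁ V
    have hW : W = U.ι ⁻¹ᵁ nv B N (g i) := by
      show ψ.toImage ⁻¹ᵁ (ψ.imageι ⁻¹ᵁ (O.ι ⁻¹ᵁ DP k i)) = _
      rw [← Scheme.Hom.comp_preimage, Scheme.Hom.toImage_imageι]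
      exact hψpre i hi
    haveI : IsOpenImmersion pr.left :=
      MorphismProperty.of_isPullback (P := @IsOpenImmersion) sq'.flip (inferInstanceAs (IsOpenImmersion V.ι))
    have hrW : W ≤ pr.left.opensRange := fun x hx => by
      obtain ⟨z, hz, -⟩ := Scheme.exists_preimage_of_isPullback sq' x ⟨_, hx⟩ rfl
      exact ⟨z, hz⟩
    have hpW : (⊤ : X₁.left.Opens) = pr.left ⁻¹ᵁ W := by
      refine (eq_top_iff.2 fun z _ => ?_).symm
      show (pr.left ≫ φ.left) z ∈ V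
      rw [sq'.w]
      exact (φ₁.left z).2
    haveI : IsAffine Y₀.left := hV
    haveI : IsAffineHom φ₁.left := MorphismProperty.of_isPullback (P := @IsAffineHom) sq' ‹_›
    haveI : IsAffine X₁.left := isAffine_of_isAffineHom φ₁.left
    have hbij := NRQ21.appLE_bijective pr.left hrW hpW
    have key : ∀ t : Γ(Y.left, V), φ₁.left.appTop (resT V t) = pr.left.appLE W ⊤ hpW.le (φ.left.app V t) := fun t => by
      have h1 : φ₁.left.appTop = φ₁.left.appLE ⊤ ⊤ le_top := φ₁.left.app_eq_appLE (U := ⊤)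
      rw [Scheme.Hom.app_eq_appLE, h1, ← CommRingCat.comp_apply, ← CommRingCat.comp_apply,
        Scheme.Hom.appLE_comp_appLE, Scheme.Hom.appLE_comp_appLE]
      exact ConcreteCategory.congr_hom (HMNum19.appLE_congr sq'.w.symm _) t
    have hinj : Function.Injective (φ.left.app V) := Scheme.Hom.toImage_app_injective ψ ⟨_, hD i hi⟩
    refine ⟨hi₁, inferInstance, inferInstance, ?_, Set.Subset.antisymm (Set.range_subset_iff.2 fun t => ?_) ?_⟩
    · intro t t' h
      obtain ⟨u, rfl⟩ := (resT_bijective V).2 t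
      obtain ⟨u', rfl⟩ := (resT_bijective V).2 t'
      rw [key, key] at h
      exact congrArg _ (hinj (hbij.1 h))
    · show a₁.act.left.appTop _ = (snd G X₁).left.appTop _
      rw [← CommRingCat.comp_apply, ← CommRingCat.comp_apply, ← Scheme.Hom.comp_appTop, ← Scheme.Hom.comp_appTop,
        hi₁.left]
    · intro c hc
      obtain ⟨r₀, rfl⟩ := hbij.2 c
      have h₀ : InvOn aU W r₀ := (invOn_iff hrW hpW e r₀).2 hc
      have hWle : nv B N (g i) ≤ jU.left.opensRange := by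
        show nv B N (g i) ≤ U.ι.opensRange
        rw [U.opensRange_ι]; exact hle i hi
      obtain ⟨r, hr⟩ := (NRQ21.appLE_bijective jU.left hWle (V := W) hW).2 r₀
      have hrinv : InvOn a (nv B N (g i)) r := by
        refine (NRQ21.isInvSection_iff jU haU (nv B N (g i)) hWle W hW r).1 ?_
        rw [hr]
        exact h₀
      have aux : ∀ (W' : U.toScheme.Opens) (hW' : W' = U.ι ⁻¹ᵁ nv B N (g i)) (e : W' ≤ φ₀.left ⁻¹ᵁ DP k i),
          U.ι.appLE (nv B N (g i)) W' hW'.le r ∈ Set.range (φ₀.left.appLE (DP k i) W' e) := by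
        rintro _ rfl e
        exact hrange i hi e r (hgen i hi r hrinv)
      obtain ⟨t, ht⟩ := aux W hW (hW.le.trans (hpre i hi).ge)
      refine ⟨resT V (q.appLE (DP k i) V le_rfl t), ?_⟩
      rw [key]
      congr 1
      rw [Scheme.Hom.app_eq_appLE, ← CommRingCat.comp_apply, Scheme.Hom.appLE_comp_appLE, ← hr]
      have e0 : ψ.toImage ≫ q = φ₀.left := congrArg (fun m : Xo ⟶ PP k s => m.left) hφq
      exact (ConcreteCategory.congr_hom (HMNum19.appLE_congr e0 _) t).trans ht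
  · let L : (CohB1.ProjSpace s k).Modules := _root_.Twist.twist (CohB1.polyGrading s k) ((1 : ℕ) : ℤ)
    have hL : CohB1.IsAmple L := Twist.isAmple_twist (CohB1.polyGrading s k)
      (fun i : Fin (s + 1) => MvPolynomial.X i) (ProjSpace.X_mem' s k) (ProjSpace.irrelevant_le_span s k) Nat.one_pos
    refine ⟨(Scheme.Modules.pullback q).obj L, ?_⟩
    haveI : QuasiCompact q := inferInstance
    refine RA.isAmple_pullback_of_quasiAffine q (fun V hV => ?_) hL
    haveI : IsAffine (V : Scheme.{u}) := hV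
    haveI : IsImmersion (q ∣_ V) := IsZariskiLocalAtTarget.restrict ‹_› V
    haveI : QuasiCompact (q ∣_ V) := IsZariskiLocalAtTarget.restrict ‹_› V
    haveI : CompactSpace (q ⁻¹ᵁ V).toScheme := QuasiCompact.compactSpace_of_compactSpace (q ∣_ V)
    exact Scheme.IsQuasiAffine.of_isImmersion (q ∣_ V)
  · intro n f hn hf
    let V : I → Y.left.Opens := fun i => ψ.imageι ⁻¹ᵁ (O.ι ⁻¹ᵁ DP k (i : Fin (s + 1)))
    have hW : ∀ i : I, φ.left ⁻¹ᵁ V i = U.ι ⁻¹ᵁ nv B N (g i) := fun i => by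
      show ψ.toImage ⁻¹ᵁ (ψ.imageι ⁻¹ᵁ (O.ι ⁻¹ᵁ DP k (i : Fin (s + 1)))) = _
      rw [← Scheme.Hom.comp_preimage, Scheme.Hom.toImage_imageι]
      exact hψpre i i.2
    have hloc : ∀ i : I, ∃ V' : Y.left.Opens, V' ≤ V i ∧
        φ.left ⁻¹ᵁ V' = U.ι ⁻¹ᵁ (nv B N (g i) ⊓ nv B n f) := by
      rintro ⟨i, hi⟩
      have hgn : B.IsInvSection (n * N) (g i ^ n) := ⟨HasWeight.pow B (hg i).1 n, by
        show B.lift.act.left.appTop (g i ^ n) = (snd G B.V).left.appTop (g i ^ n)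
        rw [map_pow, map_pow, show B.lift.act.left.appTop (g i) = _ from (hg i).2]⟩
      have hfN : B.IsInvSection (n * N) (f ^ N) := ⟨by rw [mul_comm n N]; exact HasWeight.pow B hf.1 N, by
        show B.lift.act.left.appTop (f ^ N) = (snd G B.V).left.appTop (f ^ N)
        rw [map_pow, map_pow, show B.lift.act.left.appTop f = _ from hf.2]⟩
      have hgnv : nv B (n * N) (g i ^ n) = nv B N (g i) := nv_pow B (hg i).1 n hn
      have hfnv : nv B (n * N) (f ^ N) = nv B n f := by rw [mul_comm n N]; exact nv_pow B hf.1 N hN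
      obtain ⟨r, hrb, hr⟩ := exists_ratio B hgn.1 hfN.1
      obtain ⟨r', hr'⟩ := exists_ratio_eq B hgn.1 hfN.1
      have hsame : r = r' := by
        let J := Σ U' : X.left.Opens, {y : Γ(B.V.left, B.π.left ⁻¹ᵁ U') // y ∈ B.atlas.chart U'}
        refine TopCat.Sheaf.eq_of_locally_eq' X.left.sheaf (fun j : J => j.1 ⊓ nv B (n * N) (g i ^ n)) _
          (fun j => homOfLE inf_le_right) (fun z hz => by
            obtain ⟨U', hzU, y, hy⟩ := B.atlas.cover z
            exact Opens.mem_iSup.2 ⟨⟨U', y, hy⟩, hzU, hz⟩) _ _ fun j => ?_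
        obtain ⟨U', y, hy⟩ := j
        obtain ⟨c, hc⟩ := coef_of_hasWeight B hgn.1 hy
        obtain ⟨c', hc'⟩ := coef_of_hasWeight B hfN.1 hy
        have hcu : IsUnit (resX (inf_le_left : U' ⊓ nv B (n * N) (g i ^ n) ≤ U') c) := by
          rw [show resX (inf_le_left : U' ⊓ nv B (n * N) (g i ^ n) ≤ U') c =
            resX (le_of_eq (nv_inf B hy hc)) (resX (X.left.basicOpen_le c) c) from (resX_resX _ _ _).symm]
          exact (RingedSpace.isUnit_res_basicOpen _ c).map _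
        refine hcu.mul_right_cancel ((hr U' y hy c c' hc hc').trans ?_)
        refine (hc'.res B inf_le_left).unique B hy ?_
        have e1 := ratio_res B (inf_le_right : U' ⊓ nv B (n * N) (g i ^ n) ≤ _) hr'
        have e2 := hc.res B (inf_le_left : U' ⊓ nv B (n * N) (g i ^ n) ≤ U')
        rw [Coef] at e2 ⊢
        rw [e1, e2, map_mul, _root_.mul_assoc]
        rfl
      have hinvr : InvOn a (nv B (n * N) (g i ^ n)) r := hsame ▸ invOn_ratio B hgn hfN.2 hr'
      rw [hfnv] at hrb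
      have aux : ∀ (O' : X.left.Opens), O' = nv B N (g i) → ∀ r : Γ(X.left, O'), InvOn a O' r →
          X.left.basicOpen r = O' ⊓ nv B n f → ∃ V' : Y.left.Opens, V' ≤ V ⟨i, hi⟩ ∧
            φ.left ⁻¹ᵁ V' = U.ι ⁻¹ᵁ (nv B N (g i) ⊓ nv B n f) := by
        rintro _ rfl r hinvr hrb
        obtain ⟨t, ht⟩ := hrange i hi (hpre i hi).ge r (hgen i hi r hinvr)
        refine ⟨V ⟨i, hi⟩ ⊓ q ⁻¹ᵁ (CohB1.ProjSpace s k).basicOpen t, inf_le_left, ?_⟩
        have e0 : ψ.toImage ≫ q = φ₀.left := congrArg (fun m : Xo ⟶ PP k s => m.left) hφq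
        have h1 := congrArg U.toScheme.basicOpen ht
        rw [Scheme.basicOpen_appLE, Scheme.basicOpen_appLE, hrb] at h1
        rw [Scheme.Hom.preimage_inf, hW ⟨i, hi⟩, ← Scheme.Hom.comp_preimage,
          show φ.left ≫ q = φ₀.left from e0]
        refine h1.trans ?_
        rw [Scheme.Hom.preimage_inf, ← inf_assoc, inf_idem]
      exact aux _ hgnv r hinvr hrb
    choose V' hV' hV'pre using hloc
    refine ⟨⨆ i, V' i, ?_⟩
    rw [Scheme.Hom.preimage_iSup]
    simp only [hV'pre]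
    refine le_antisymm (iSup_le fun i => U.ι.preimage_mono inf_le_right) fun x hx => ?_
    obtain ⟨i, hi, hxi⟩ := hcov x.1 x.2
    exact Opens.mem_iSup.2 ⟨⟨i, hi⟩, hxi, hx⟩

end Groth.Agent.GITSS15
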