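import Groth.Agent.Lib.GITHM15.Extend
import Groth.Agent.Lib.GITHM15.Locus
import Groth.Agent.Lib.GITHM15.Orbit

/-!
# Invariant sections and invariant functions on their loci
-/

set_option autoImplicit false
set_option linter.style.haveILetI false
set_option backward.isDefEq.respectTransparency.types false
universe u

open CategoryTheory Limits MonoidalCategory CartesianMonoidalCategory MonObj AlgebraicGeometry TopologicalSpace

noncomputable section

namespace Groth.Agent.GITSS15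

open Groth.Agent.WtMu19 Groth.Agent.GITHM15
open Groth.Agent.FixLine19 (sp str)

attribute [local instance] HomSch19.algW

variable {k : Type u} [Field k] {G X : Over (Spec (CommRingCat.of k))} [GrpObj G] {a : AlgGrp.Action G X}

variable (a) in
/-- The function on the open is invariant. -/
def InvOn (U : X.left.Opens) (r : Γ(X.left, U)) : Prop :=
  a.act.left.appLE U (a.act.left ⁻¹ᵁ U ⊓ (snd G X).left ⁻¹ᵁ U) inf_le_left r =
    (snd G X).left.appLE U (a.act.left ⁻¹ᵁ U ⊓ (snd G X).left ⁻¹ᵁ U) inf_le_right r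

variable (B : GLinSh.LinBun G a)

theorem preimage_nv {n : ℕ} {f : Γ(B.V.left, ⊤)} (hf : B.IsInvSection n f) :
    a.act.left ⁻¹ᵁ nv B n f = (snd G X).left ⁻¹ᵁ nv B n f := by
  refine TopologicalSpace.Opens.ext ?_
  show a.act.left ⁻¹' (nv B n f : Set X.left) = (snd G X).left ⁻¹' (nv B n f : Set X.left)
  rw [coe_nv B hf.1]
  exact act_preimage_nonvanishing B hf.2

/-- A ratio of invariant sections is invariant. -/
theorem invOn_ratio {M : ℕ} {f g : Γ(B.V.left, ⊤)} (hf : B.IsInvSection M f) (hg : GLinSh.IsInvFn B.lift g)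
    {r : Γ(X.left, nv B M f)}
    (e0 : GLinSh.resTop B.π (nv B M f) g =
      B.π.left.app (nv B M f) r * GLinSh.resTop B.π (nv B M f) f) :
    InvOn a (nv B M f) r := by
  let U := nv B M f
  refine TopCat.Presheaf.section_ext (G ⊗ X).left.sheaf _ _ _ fun w hw => ?_
  let S := (G ⊗ X).left.presheaf.stalk w
  let st := (G ⊗ X).left.fromSpecStalk w
  letI : Algebra k S := (Spec.preimage (st ≫ (G ⊗ X).hom)).hom.toAlgebra
  let q : sp (k := k) S ⟶ G ⊗ X := Over.homMk st (Spec.map_preimage (st ≫ (G ⊗ X).hom)).symm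
  let p : sp (k := k) S ⟶ X := q ≫ snd G X
  obtain ⟨U', hzU', y, hy⟩ := B.atlas.cover ((snd G X).left.base w)
  have hclosed : q.left.base (IsLocalRing.closedPoint S) = w := Scheme.fromSpecStalk_closedPoint
  have hgen : ∀ (O : (G ⊗ X).left.Opens), w ∈ O → q.left ⁻¹ᵁ O = ⊤ := fun O hO => eq_top_iff.2 fun t _ =>
    ((IsLocalRing.specializes_closedPoint t).map q.left.continuous).mem_open O.2 (hclosed.symm ▸ hO)
  have hpU' : p.left ⁻¹ᵁ U' = ⊤ := hgen ((snd G X).left ⁻¹ᵁ U') hzU'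
  obtain ⟨v, hv, h, he⟩ := exists_pt_coord B hy p hpU' 1
  obtain ⟨c, hc⟩ := coef_of_hasWeight B hf.1 hy
  have hpU : p.left ⁻¹ᵁ U = ⊤ := hgen ((snd G X).left ⁻¹ᵁ U) hw.2
  have hvU : ⊤ ≤ v.left ⁻¹ᵁ (B.π.left ⁻¹ᵁ U) := by
    show ⊤ ≤ (v ≫ B.π).left ⁻¹ᵁ U
    rw [hv, hpU]
  have hunit : IsUnit (v.left.appTop f) := by
    rw [appTop_of_weight B ((coef_iff B).1 hc) v h, he, one_pow, _root_.mul_one]
    set t := (v ≫ B.π).left.appLE U' ⊤ h c with ht
    have hb : (sp (k := k) S).left.basicOpen t = ⊤ := by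
      refine eq_top_iff.2 fun z _ => ?_
      rw [ht, Scheme.basicOpen_appLE]
      refine ⟨trivial, ?_⟩
      have h1 : (v ≫ B.π).left.base z ∈ U' := h trivial
      have h2 : (v ≫ B.π).left.base z ∈ U := hvU trivial
      exact (nv_inf B hy hc).le ⟨h1, h2⟩
    obtain ⟨s, hs⟩ := (ConcreteCategory.bijective_of_isIso (Scheme.ΓSpecIso (CommRingCat.of S)).inv).2 t
    have hcl : (IsLocalRing.closedPoint S) ∈ (Spec (CommRingCat.of S)).basicOpen t := hb.ge trivial
    rw [← hs]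
    refine IsUnit.map _ (IsLocalRing.notMem_maximalIdeal.1 ?_)
    rw [← hs, basicOpen_eq_of_affine] at hcl
    exact hcl
  let v' : sp (k := k) S ⟶ G ⊗ B.V := lift (q ≫ fst G X) v
  have h2 : v' ≫ (G ◁ B.π) = q := by
    rw [lift_whiskerLeft, hv]
    exact (comp_lift q (fst G X) (snd G X)).symm.trans (by rw [lift_fst_snd, Category.comp_id])
  have hs : v' ≫ snd G B.V = v := lift_snd _ _
  have ha : (v' ≫ B.lift.act) ≫ B.π = q ≫ a.act := by
    rw [Category.assoc, B.lift_π, ← Category.assoc, h2]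
  have haU : ⊤ ≤ (v' ≫ B.lift.act).left ⁻¹ᵁ (B.π.left ⁻¹ᵁ U) := by
    show ⊤ ≤ ((v' ≫ B.lift.act) ≫ B.π).left ⁻¹ᵁ U
    rw [ha]
    exact (hgen (a.act.left ⁻¹ᵁ U) hw.1).ge
  have same : ∀ {φ : Γ(B.V.left, ⊤)}, GLinSh.IsInvFn B.lift φ →
      (v' ≫ B.lift.act).left.appTop φ = v.left.appTop φ := fun {φ} hφ => by
    conv_rhs => rw [← hs]
    rw [Over.comp_left, Scheme.Hom.comp_appTop, CommRingCat.comp_apply, show B.lift.act.left.appTop φ = _ from hφ]
    rfl
  have ev := appTop_of_ratio B e0 v hvU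
  have ea := appTop_of_ratio B e0 (v' ≫ B.lift.act) haU
  rw [same hg, same hf.2] at ea
  have key := hunit.mul_right_cancel (ev.symm.trans ea)
  have k1 : q.left.appLE (a.act.left ⁻¹ᵁ U ⊓ (snd G X).left ⁻¹ᵁ U) ⊤ (hgen _ hw).ge
      (a.act.left.appLE U _ inf_le_left r) = q.left.appLE (a.act.left ⁻¹ᵁ U ⊓ (snd G X).left ⁻¹ᵁ U) ⊤ (hgen _ hw).ge
      ((snd G X).left.appLE U _ inf_le_right r) := by
    rw [← CommRingCat.comp_apply, ← CommRingCat.comp_apply, Scheme.Hom.appLE_comp_appLE,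
      Scheme.Hom.appLE_comp_appLE]
    have eA := HMNum19.appLE_congr (congrArg (fun m : sp (k := k) S ⟶ X => m.left) ha)
      (show ⊤ ≤ ((v' ≫ B.lift.act) ≫ B.π).left ⁻¹ᵁ U from haU)
    have eV := HMNum19.appLE_congr (congrArg (fun m : sp (k := k) S ⟶ X => m.left) hv)
      (show ⊤ ≤ (v ≫ B.π).left ⁻¹ᵁ U from hvU)
    rw [eA, eV] at key
    simp only [Over.comp_left] at key ⊢
    exact key.symm
  have hg : q.left.appLE _ ⊤ (hgen _ hw).ge =
      (G ⊗ X).left.presheaf.germ (a.act.left ⁻¹ᵁ U ⊓ (snd G X).left ⁻¹ᵁ U) w hw ≫ (Scheme.ΓSpecIso S).inv := by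
    show st.appLE _ ⊤ (hgen _ hw).ge = _
    simp only [Scheme.Hom.appLE, st]
    rw [Scheme.fromSpecStalk_app hw, Category.assoc, Category.assoc, ← Functor.map_comp]
    congr 1
  rw [hg, CommRingCat.comp_apply, CommRingCat.comp_apply] at k1
  exact (ConcreteCategory.bijective_of_isIso (Scheme.ΓSpecIso S).inv).1 k1

/-- An invariant function on the locus times a power of the section extends to an invariant section. -/
theorem exists_inv_extend [IsAffine G.left] [LocallyOfFiniteType X.hom] [CompactSpace X.left] {n : ℕ}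
    {f : Γ(B.V.left, ⊤)} (hf : B.IsInvSection n f) {r : Γ(X.left, nv B n f)} (hr : InvOn a (nv B n f) r) :
    ∃ K : ℕ, ∀ M, K ≤ M → ∃ g, B.IsInvSection (M * n) g ∧
      GLinSh.resTop B.π (nv B n f) g = B.π.left.app (nv B n f) r * GLinSh.resTop B.π (nv B n f) (f ^ M) := by
  obtain ⟨K, hK⟩ := exists_extend B hf.1 r
  obtain ⟨g, hgw, hge⟩ := hK K le_rfl
  let U := nv B n f
  let q := (snd G B.V).left.appTop f
  let D : (G ⊗ B.V).left.Opens := (G ⊗ B.V).left.basicOpen q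
  haveI := B.atlas.affine
  haveI : CompactSpace B.V.left := QuasiCompact.compactSpace_of_compactSpace B.π.left
  haveI : IsAffineHom G.hom := inferInstance
  haveI : IsAffineHom (snd G B.V).left :=
    show IsAffineHom (pullback.snd G.hom B.V.hom) from MorphismProperty.pullback_snd _ _ ‹IsAffineHom G.hom›
  have hcompact : IsCompact ((⊤ : (G ⊗ B.V).left.Opens) : Set (G ⊗ B.V).left) :=
    ((snd G B.V).left.isCompact_preimage (U := ⊤) isCompact_univ)
  have hDV : D ≤ (snd G B.V).left ⁻¹ᵁ (B.π.left ⁻¹ᵁ U) := by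
    intro z hz
    show B.π.left ((snd G B.V).left z) ∈ (U : Set X.left)
    rw [coe_nv B hf.1]
    refine ⟨_, ?_, rfl⟩
    show z ∈ (snd G B.V).left ⁻¹ᵁ B.V.left.basicOpen f
    rw [Scheme.preimage_basicOpen_top]
    exact hz
  have hDA : D ≤ B.lift.act.left ⁻¹ᵁ (B.π.left ⁻¹ᵁ U) := by
    intro z hz
    show B.π.left (B.lift.act.left z) ∈ (U : Set X.left)
    rw [coe_nv B hf.1]
    refine ⟨_, ?_, rfl⟩
    show z ∈ B.lift.act.left ⁻¹ᵁ B.V.left.basicOpen f
    rw [Scheme.preimage_basicOpen_top, show B.lift.act.left.appTop f = q from hf.2]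
    exact hz
  have hDX : D ≤ (G ◁ B.π).left ⁻¹ᵁ (a.act.left ⁻¹ᵁ U ⊓ (snd G X).left ⁻¹ᵁ U) := fun z hz =>
    ⟨show ((G ◁ B.π) ≫ a.act).left z ∈ U by rw [← B.lift_π]; exact hDA hz,
      show ((G ◁ B.π) ≫ snd G X).left z ∈ U by rw [whiskerLeft_snd]; exact hDV hz⟩
  have pull : ∀ (Φ : G ⊗ B.V ⟶ B.V) (hΦ : D ≤ Φ.left ⁻¹ᵁ (B.π.left ⁻¹ᵁ U)),
      (G ⊗ B.V).left.presheaf.map (homOfLE le_top).op (Φ.left.appTop g) =
        (Φ ≫ B.π).left.appLE U D hΦ r * (G ⊗ B.V).left.presheaf.map (homOfLE le_top).op (Φ.left.appTop (f ^ K)) := by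
    intro Φ hΦ
    have e := congrArg (Φ.left.appLE (B.π.left ⁻¹ᵁ U) D hΦ) hge
    rw [map_mul, GLinSh.resTop, GLinSh.resTop, ← CommRingCat.comp_apply, Scheme.Hom.map_appLE,
      Scheme.Hom.app_eq_appLE, ← CommRingCat.comp_apply (B.π.left.appLE _ _ _), Scheme.Hom.appLE_comp_appLE,
      ← CommRingCat.comp_apply, Scheme.Hom.map_appLE] at e
    show Φ.left.appLE ⊤ D (fun _ _ => trivial) g = (Φ.left ≫ B.π.left).appLE U D _ r *
      Φ.left.appLE ⊤ D (fun _ _ => trivial) (f ^ K)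
    exact e
  have hdiff : ((B.lift.act.left.appTop g - (snd G B.V).left.appTop g) |_ D) = 0 := by
    show (G ⊗ B.V).left.presheaf.map (homOfLE le_top).op _ = 0
    rw [map_sub, sub_eq_zero, pull _ hDA, pull _ hDV,
      show B.lift.act.left.appTop (f ^ K) = (snd G B.V).left.appTop (f ^ K) from by
        rw [map_pow, map_pow, show B.lift.act.left.appTop f = _ from hf.2]]
    congr 1
    have h1 := congrArg ((G ◁ B.π).left.appLE _ D hDX) (show _ = _ from hr)
    rw [← CommRingCat.comp_apply, ← CommRingCat.comp_apply, Scheme.Hom.appLE_comp_appLE,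
      Scheme.Hom.appLE_comp_appLE] at h1
    rw [HMNum19.appLE_congr (congrArg (fun m : G ⊗ B.V ⟶ X => m.left) B.lift_π) _,
      HMNum19.appLE_congr (congrArg (fun m : G ⊗ B.V ⟶ X => m.left) (whiskerLeft_snd G B.π).symm) _]
    simp only [Over.comp_left]
    exact h1
  obtain ⟨e, he⟩ := exists_pow_mul_eq_zero_of_res_basicOpen_eq_zero_of_isCompact (G ⊗ B.V).left hcompact
    (B.lift.act.left.appTop g - (snd G B.V).left.appTop g) q hdiff
  refine ⟨K + e, fun M hM => ⟨g * f ^ (M - K), ⟨?_, ?_⟩, ?_⟩⟩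
  · have := HasWeight.mul B hgw (HasWeight.pow B hf.1 (M - K))
    rwa [← add_mul, Nat.add_sub_of_le (le_trans (Nat.le_add_right K e) hM)] at this
  · show B.lift.act.left.appTop _ = (snd G B.V).left.appTop _
    rw [← sub_eq_zero, map_mul, map_mul, map_pow, map_pow, show B.lift.act.left.appTop f = q from hf.2,
      show (snd G B.V).left.appTop f = q from rfl, ← sub_mul]
    obtain ⟨d, hd⟩ : ∃ d, M - K = e + d := ⟨M - K - e, by omega⟩
    rw [hd, pow_add, ← _root_.mul_assoc, mul_comm _ (q ^ e), he, zero_mul]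
  · rw [GLinSh.resTop, map_mul, show B.V.left.presheaf.map _ g = _ from hge, _root_.mul_assoc]
    congr 1
    show GLinSh.resTop B.π U (f ^ K) * GLinSh.resTop B.π U (f ^ (M - K)) = _
    rw [GLinSh.resTop, GLinSh.resTop, ← map_mul, ← pow_add,
      Nat.add_sub_of_le (le_trans (Nat.le_add_right K e) hM)]

end Groth.Agent.GITSS15
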