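import Groth.Agent.Lib.GITSS15.Quot
import Groth.Agent.Lib.AffAct15.Orbit

/-!
# The geometric quotient of the stable locus
-/

set_option autoImplicit false
set_option linter.style.haveILetI false
set_option backward.isDefEq.respectTransparency.types false
universe u

open CategoryTheory Limits MonoidalCategory CartesianMonoidalCategory MonObj AlgebraicGeometry TopologicalSpace

noncomputable section

namespace Groth.Agent.GITSS15

open Groth.Agent.WtMu19 Groth.Agent.GITHM15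
open Groth.Agent.GITQuot (exists_pullback_action)

variable {k : Type u} [Field k] {G X : Over (Spec (CommRingCat.of k))} [GrpObj G] {a : AlgGrp.Action G X}
  (B : GLinSh.LinBun G a)

set_option maxHeartbeats 1600000 in
/-- The stable locus is saturated and has a geometric quotient. -/
theorem exists_geomQuot_stable [IsAffine G.left] {A : Type u} [CommRing A] [HopfAlgebra k A]
    (eG : CoactBr.sp k A ⟶ G) [IsMonHom eG] [IsIso eG] (hG : HopfRep.IsLinearlyReductive k A)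
    {U : X.left.Opens} {aU : AlgGrp.Action G (Over.mk (U.ι ≫ X.hom))}
    {jU : Over.mk (U.ι ≫ X.hom) ⟶ X} (hjU : jU.left = U.ι) (haU : aU.act ≫ jU = (G ◁ jU) ≫ a.act)
    {Y : Over (Spec (CommRingCat.of k))} {φ : Over.mk (U.ι ≫ X.hom) ⟶ Y} [IsSeparated Y.hom]
    (hφ : AffAct15.IsLocAffQuot aU φ)
    (hsat : ∀ (n : ℕ) (f : Γ(B.V.left, ⊤)), 1 ≤ n → B.IsInvSection n f →
      ∃ V : Y.left.Opens, φ.left ⁻¹ᵁ V = U.ι ⁻¹ᵁ nv B n f)
    {Us : X.left.Opens} (hUs : (Us : Set X.left) = B.sLocus) (hle : Us ≤ U)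
    (aS : AlgGrp.Action G (Over.mk (Us.ι ≫ X.hom)))
    (jS : Over.mk (Us.ι ≫ X.hom) ⟶ X) (hjS : jS.left = Us.ι) (haS : aS.act ≫ jS = (G ◁ jS) ≫ a.act) :
    ∃ (Yt : Y.left.Opens) (φs : Over.mk (Us.ι ≫ X.hom) ⟶ Over.mk (Yt.ι ≫ Y.hom)),
      φs.left ≫ Yt.ι = X.left.homOfLE hle ≫ φ.left ∧ φ.left ⁻¹ᵁ Yt = U.ι ⁻¹ᵁ Us ∧
      GIT.IsUnivGeomQuot aS φs := by
  obtain rfl : jU = Over.homMk U.ι rfl := Over.OverMorphism.ext hjU
  obtain rfl : jS = Over.homMk Us.ι rfl := Over.OverMorphism.ext hjS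
  let Xo : Over (Spec (CommRingCat.of k)) := Over.mk (U.ι ≫ X.hom)
  let Xs : Over (Spec (CommRingCat.of k)) := Over.mk (Us.ι ≫ X.hom)
  let jU : Xo ⟶ X := Over.homMk U.ι rfl
  let jS : Xs ⟶ X := Over.homMk Us.ι rfl
  let incl : Xs ⟶ Xo := Over.homMk (X.left.homOfLE hle) (by
    show X.left.homOfLE hle ≫ U.ι ≫ X.hom = Us.ι ≫ X.hom
    rw [Scheme.homOfLE_ι_assoc])
  have hincl : incl ≫ jU = jS := Over.OverMorphism.ext (X.left.homOfLE_ι hle)
  haveI : Mono jU := (Over.forget _).mono_of_mono_map (show Mono U.ι from inferInstance)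
  have heq : aS.act ≫ incl = (G ◁ incl) ≫ aU.act := by
    rw [← cancel_mono jU, Category.assoc, Category.assoc, hincl, haS, haU, ← MonoidalCategory.whiskerLeft_comp_assoc,
      hincl]
  have hst : ∀ x : Us, ∃ (n : ℕ) (f : Γ(B.V.left, ⊤)), 1 ≤ n ∧ B.IsInvSection n f ∧ x.1 ∈ nv B n f ∧
      GLinSh.ClosedOrbitsOn a (nv B n f) ∧ nv B n f ≤ Us := by
    rintro ⟨x, hx⟩
    have hx' : x ∈ (Us : Set X.left) := hx
    rw [hUs] at hx'
    obtain ⟨n, f, hn, hf, hxf, W, hW, hWa, hWc⟩ := hx'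
    obtain rfl : W = nv B n f := Opens.ext (hW.trans (coe_nv B hf.1).symm)
    refine ⟨n, f, hn, hf, (coe_nv B hf.1).ge hxf, hWc, fun z hz => ?_⟩
    show z ∈ (Us : Set X.left)
    rw [hUs]
    exact ⟨n, f, hn, hf, hW.le hz, nv B n f, hW, hWa, hWc⟩
  choose n f hn hf hxf hcl hfle using hst
  choose V hV using fun x => hsat (n x) (f x) (hn x) (hf x)
  let Yt : Y.left.Opens := ⨆ x, V x
  have hYt : φ.left ⁻¹ᵁ Yt = U.ι ⁻¹ᵁ Us := by
    rw [Scheme.Hom.preimage_iSup]
    simp only [hV]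
    exact le_antisymm (iSup_le fun x => U.ι.preimage_mono (hfle x)) fun z hz =>
      Opens.mem_iSup.2 ⟨⟨z.1, hz⟩, hxf ⟨z.1, hz⟩⟩
  have hr : Set.range (incl ≫ φ).left.base ⊆ Set.range Yt.ι.base := by
    rw [Scheme.Opens.range_ι]
    rintro _ ⟨z, rfl⟩
    have h : incl.left z ∈ φ.left ⁻¹ᵁ Yt := by
      rw [hYt]
      show (incl ≫ jU).left z ∈ Us
      rw [hincl]
      exact z.2
    exact h
  let φs : Xs ⟶ Over.mk (Yt.ι ≫ Y.hom) := Over.homMk (IsOpenImmersion.lift Yt.ι (incl ≫ φ).left hr) (by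
    show _ ≫ Yt.ι ≫ Y.hom = _
    rw [IsOpenImmersion.lift_fac_assoc]
    exact Over.w (incl ≫ φ))
  let gY : Over.mk (Yt.ι ≫ Y.hom) ⟶ Y := Over.homMk Yt.ι rfl
  have hφs : φs.left ≫ Yt.ι = X.left.homOfLE hle ≫ φ.left := IsOpenImmersion.lift_fac _ _ _
  have sq : IsPullback incl φs φ gY := by
    refine IsPullback.of_map (Over.forget _) (Over.OverMorphism.ext hφs.symm) ?_
    show IsPullback (X.left.homOfLE hle) φs.left φ.left Yt.ι
    have key : ∀ O : Xo.left.Opens, O = φ.left ⁻¹ᵁ Yt → ∀ (i : Xs.left ⟶ Xo.left) [IsOpenImmersion i],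
        i.opensRange = O → ∀ l : Xs.left ⟶ Yt.toScheme, l ≫ Yt.ι = i ≫ φ.left →
        IsPullback i l φ.left Yt.ι := by
      intro O hO i _ hi l hl
      refine (IsPullback.of_iso (isPullback_morphismRestrict φ.left Yt).flip
        (IsOpenImmersion.isoOfRangeEq (φ.left ⁻¹ᵁ Yt).ι i ?_) (Iso.refl _) (Iso.refl _) (Iso.refl _) ?_ ?_ ?_ ?_)
      · rw [Scheme.Opens.range_ι, show Set.range i = (i.opensRange : Set Xo.left) from rfl, hi, hO]
      · simp
      · rw [Iso.refl_hom, Category.comp_id, ← cancel_mono Yt.ι, Category.assoc, hl, morphismRestrict_ι,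
          IsOpenImmersion.isoOfRangeEq_hom_fac_assoc]
      · simp
      · simp
    refine key _ rfl (X.left.homOfLE hle) ?_ _ hφs
    rw [Scheme.opensRange_homOfLE, hYt]

  have hinvs : GIT.IsInvariant aS φs := by
    haveI : Mono gY := (Over.forget _).mono_of_mono_map (show Mono Yt.ι from inferInstance)
    show aS.act ≫ φs = snd G Xs ≫ φs
    rw [← cancel_mono gY, Category.assoc, Category.assoc, ← sq.w, ← Category.assoc, heq, Category.assoc,
      show aU.act ≫ φ = snd G Xo ≫ φ from hφ.1, whiskerLeft_snd_assoc]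
  have hL := hφ.baseChange eG hG sq heq hinvs
  refine ⟨Yt, φs, hφs, hYt, hL.isUnivGeomQuot eG hG ?_⟩
  intro Ω _ _ T e p
  haveI : Subsingleton T.left := (Scheme.homeoOfIso e).injective.subsingleton (f := (Scheme.homeoOfIso e))
  have hrT : ∀ t t' : T.left, t = t' := Subsingleton.elim
  obtain ⟨t₀⟩ : Nonempty T.left := ⟨e.inv.base (⊥ : PrimeSpectrum Ω)⟩
  let x₀ : Us := p.left.base t₀
  obtain hP := hcl x₀ Ω T e (p ≫ jS) (by
    rintro _ ⟨t, rfl⟩
    rw [hrT t t₀]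
    exact hxf x₀)
  have hpsi : GIT.psi aS p ≫ (jS ▷ T) = GIT.psi a (p ≫ jS) := by
    rw [GIT.psi, GIT.psi, lift_whiskerRight, Category.assoc, haS, ← MonoidalCategory.whiskerLeft_comp_assoc]
  haveI : Mono jS := (Over.forget _).mono_of_mono_map (show Mono Us.ι from inferInstance)
  haveI : Mono (jS ▷ T) := ⟨fun u v huv => by
    ext1
    · rw [← cancel_mono jS]
      simpa using congrArg (· ≫ fst X T) huv
    · simpa using congrArg (· ≫ snd X T) huv⟩
  haveI : Mono (jS ▷ T).left := inferInstanceAs (Mono ((Over.forget _).map (jS ▷ T)))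
  let Φ : Xs ⊗ T ⟶ Y ⊗ Y := lift (fst Xs T ≫ incl ≫ φ) (snd Xs T ≫ p ≫ incl ≫ φ)
  have hsep : IsClosed (Set.range (lift (𝟙 Y) (𝟙 Y)).left.base) := by
    haveI : IsClosedImmersion (lift (𝟙 Y) (𝟙 Y)).left := by
      have : (lift (𝟙 Y) (𝟙 Y)).left = pullback.diagonal Y.hom := by
        apply pullback.hom_ext
        · rw [pullback.diagonal_fst]
          exact congrArg (fun m : Y ⟶ Y => m.left) (lift_fst (𝟙 Y) (𝟙 Y))
        · rw [pullback.diagonal_snd]
          exact congrArg (fun m : Y ⟶ Y => m.left) (lift_snd (𝟙 Y) (𝟙 Y))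
      rw [this]
      infer_instance
    exact (lift (𝟙 Y) (𝟙 Y)).left.isClosedEmbedding.isClosed_range
  let F : Set (Xs ⊗ T).left := Φ.left.base ⁻¹' Set.range (lift (𝟙 Y) (𝟙 Y)).left.base
  have horb : Set.range (GIT.psi aS p).left.base ⊆ F := by
    rintro _ ⟨q, rfl⟩
    refine ⟨(snd G T ≫ p ≫ incl ≫ φ).left.base q, ?_⟩
    have : snd G T ≫ p ≫ incl ≫ φ ≫ lift (𝟙 Y) (𝟙 Y) = GIT.psi aS p ≫ Φ := by
      ext1
      · simp only [Φ, GIT.psi, Category.assoc, lift_fst, lift_fst_assoc, Category.comp_id]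
        erw [lift_fst_assoc]
        rw [Category.assoc, reassoc_of% heq, show aU.act ≫ φ = snd G Xo ≫ φ from hφ.1]
        simp only [whiskerLeft_snd_assoc, whiskerLeft_snd, Category.assoc]
        exact (whiskerLeft_snd_assoc G p (incl ≫ φ)).symm
      · simp only [Φ, GIT.psi, Category.assoc, lift_snd, lift_snd_assoc, Category.comp_id]
        erw [lift_snd_assoc]
    exact congrArg (fun m : G ⊗ T ⟶ Y ⊗ Y => m.left.base q) this
  have hF : ∀ z ∈ F, (fst X T).left.base ((jS ▷ T).left.base z) ∈ nv B (n x₀) (f x₀) := by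
    rintro z ⟨y, hy⟩
    have h1 : (incl ≫ φ).left.base ((fst Xs T).left.base z) = y := by
      have := congrArg (fun w => (fst Y Y).left.base w) hy.symm
      refine Eq.trans ?_ (this.trans ?_)
      · exact congrArg (fun m : Xs ⊗ T ⟶ Y => m.left.base z) (lift_fst (fst Xs T ≫ incl ≫ φ) (snd Xs T ≫ p ≫ incl ≫ φ)).symm
      · exact congrArg (fun m : Y ⟶ Y => m.left.base y) (lift_fst (𝟙 Y) (𝟙 Y))
    have h2 : (incl ≫ φ).left.base (p.left.base t₀) = y := by
      have := congrArg (fun w => (snd Y Y).left.base w) hy.symm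
      refine Eq.trans ?_ (this.trans ?_)
      · rw [hrT t₀ ((snd Xs T).left.base z)]
        exact congrArg (fun m : Xs ⊗ T ⟶ Y => m.left.base z) (lift_snd (fst Xs T ≫ incl ≫ φ) (snd Xs T ≫ p ≫ incl ≫ φ)).symm
      · exact congrArg (fun m : Y ⟶ Y => m.left.base y) (lift_snd (𝟙 Y) (𝟙 Y))
    have hy' : incl.left.base (p.left.base t₀) ∈ φ.left ⁻¹ᵁ V x₀ := by
      rw [hV]
      show (incl ≫ jU).left.base (p.left.base t₀) ∈ nv B (n x₀) (f x₀)
      rw [hincl]
      exact hxf x₀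
    have hz : incl.left.base ((fst Xs T).left.base z) ∈ φ.left ⁻¹ᵁ V x₀ := by
      show (incl ≫ φ).left.base ((fst Xs T).left.base z) ∈ V x₀
      rw [h1, ← h2]
      exact hy'
    rw [hV] at hz
    show ((jS ▷ T) ≫ fst X T).left.base z ∈ nv B (n x₀) (f x₀)
    rw [whiskerRight_fst, ← hincl]
    exact hz
  have hFc : IsClosed F := hsep.preimage Φ.left.continuous
  let ev : F → (fst X T).left ⁻¹ᵁ nv B (n x₀) (f x₀) := fun z => ⟨(jS ▷ T).left.base z, hF z z.2⟩
  have hev : Continuous ev := Continuous.subtype_mk ((jS ▷ T).left.continuous.comp continuous_subtype_val) _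
  have : Set.range (GIT.psi aS p).left.base = Subtype.val '' (ev ⁻¹'
      ((fun q : (fst X T).left ⁻¹ᵁ nv B (n x₀) (f x₀) => (q : (X ⊗ T).left)) ⁻¹'
        Set.range (GIT.psi a (p ≫ jS)).left.base)) := by
    ext z
    constructor
    · rintro ⟨q, rfl⟩
      exact ⟨⟨_, horb ⟨q, rfl⟩⟩, ⟨q, congrArg (fun m : G ⊗ T ⟶ X ⊗ T => m.left.base q) hpsi.symm⟩, rfl⟩
    · rintro ⟨z', ⟨q, hq⟩, rfl⟩
      refine ⟨q, (jS ▷ T).left.injective ?_⟩
      show (GIT.psi aS p ≫ (jS ▷ T)).left.base q = _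
      rw [hpsi]
      exact hq
  rw [this]
  exact hFc.isClosedEmbedding_subtypeVal.isClosedMap _ (hP.preimage hev)

end Groth.Agent.GITSS15
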